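import Groth.Agent.ConstEmb13.Const
import Groth.Agent.EtFound.SepClosedField
import Groth.Agent.EtFound.PullConst
import Groth.Agent.EtFound.AbsNormal
import Groth.Agent.EtFound.CompactObj
import Groth.Agent.EtFound.Crit
import Groth.Agent.EtFound.NoethACC
import Groth.Agent.ConsPropLib.Noetherian
import Groth.Agent.S3105
import Groth.Agent.S7382
import Groth.Agent.S0131
import Groth.Agent.S0137

/-!
# Constructible sheaves embed into direct images of constant sheaves
-/

set_option autoImplicit false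
set_option linter.style.haveILetI false
set_option backward.isDefEq.respectTransparency false
set_option backward.isDefEq.respectTransparency.types false

universe u

open CategoryTheory CategoryTheory.Limits AlgebraicGeometry Opposite Topology

namespace Groth.Agent.ConstEmb13

open Groth.Agent.EtFound

/-- Constant sheaves with finite values are constructible. -/
theorem isConstructible_const (Y : Scheme.{u}) (M : Type) [AddCommGroup M] [Finite M] :
    EtPBC.IsConstructible (EtCoh.const Y M) := by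
  refine isConstructible_of_pieces fun V _ y hyV => ⟨Set.univ, trivial, ⟨Y, 𝟙 Y, inferInstance, ?_, ?_⟩, ?_⟩
  · simp
  · let J := Y.smallEtaleTopology
    let M' : AddCommGrpCat.{u + 1} := AddCommGrpCat.of (ULift.{u + 1} M)
    haveI : Finite M' := inferInstanceAs (Finite (ULift.{u + 1} M))
    let φ : M' ⟶ (EtCoh.const Y M).obj.obj (op (EtCoh.top Y)) :=
      (toSheafify J ((Functor.const Y.Etaleᵒᵖ).obj M')).app (op (EtCoh.top Y))
    have hφ : ConstBy (EtCoh.const Y M) φ := fun Ω _ _ ξ z =>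
      toSheafify_const_germ_bijective ξ AddCommGrpCat.{u + 1} M' (EtCoh.top Y) z
    refine (isFiniteLocallyConstant_iff _).2 fun t => ?_
    obtain ⟨w, -, hw⟩ := Scheme.Pullback.exists_preimage_pullback (f := (EtCoh.top Y).hom) (g := 𝟙 Y) t t rfl
    exact ⟨(EtCoh.bc (𝟙 Y)).obj (EtCoh.top Y), w, hw, _, finConst_range (constBy_pull (𝟙 Y) hφ)⟩
  · rw [Set.preimage_univ]
    exact IsConstructible.univ

/-- A sheaf with a finite stalk on a separably closed field is constant. -/
theorem exists_iso_const (K : Type u) [Field K] [IsSepClosed K] (G : EtCoh.Ab (Spec (CommRingCat.of K)))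
    (hfin : Finite ((EtCoh.stalk (𝟙 (Spec (CommRingCat.of K)))).obj G)) :
    ∃ (M : Type) (_ : AddCommGroup M) (_ : Finite M), Nonempty (G ≅ EtCoh.const (Spec (CommRingCat.of K)) M) := by
  let A := (EtCoh.stalk (𝟙 (Spec (CommRingCat.of K)))).obj G
  haveI : Finite A := hfin
  haveI : Small.{0} A := Small.mk' (Finite.equivFin A)
  refine ⟨Shrink.{0} A, inferInstance, Finite.of_equiv A (equivShrink A), ?_⟩
  let M' : AddCommGrpCat.{u + 1} := AddCommGrpCat.of (ULift.{u + 1} (Shrink.{0} A))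
  let a₁ : M' ≅ A := AddEquiv.toAddCommGrpIso ((AddEquiv.ulift).trans Shrink.addEquiv)
  let S := (Scheme.pointSmallEtale (𝟙 (Spec (CommRingCat.of K))))
  let c : M' ⟶ (EtCoh.stalk (𝟙 (Spec (CommRingCat.of K)))).obj (EtCoh.const (Spec (CommRingCat.of K)) (Shrink.{0} A)) :=
    (toSheafify (Spec (CommRingCat.of K)).smallEtaleTopology ((Functor.const _).obj M')).app (op (EtCoh.top _)) ≫
      S.toPresheafFiber _ (idTop K) _
  haveI : IsIso c := (ConcreteCategory.isIso_iff_bijective _).2
    (toSheafify_const_germ_bijective (𝟙 (Spec (CommRingCat.of K))) AddCommGrpCat.{u + 1} M' _ (idTop K))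
  haveI := sheafFiber_isEquivalence (k := K) (A := AddCommGrpCat.{u + 1})
  exact ⟨(EtCoh.stalk (𝟙 (Spec (CommRingCat.of K)))).preimageIso (a₁.symm ≪≫ asIso c)⟩

/-- On an absolutely normal integral scheme a sheaf maps to a constant one, bijectively at the generic point. -/
theorem exists_toConst (Z : Scheme.{u}) [IsIntegral Z] (hZ : Pi1.IsNormalScheme Z) (hcl : IsAlgClosed Z.functionField)
    (H : EtCoh.Ab Z) (hfin : ∀ (Ω : Type u) [Field Ω] [IsSepClosed Ω] (ξ : Spec (CommRingCat.of Ω) ⟶ Z),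
      Finite ((EtCoh.stalk ξ).obj H)) :
    ∃ (M : Type) (_ : AddCommGroup M) (_ : Finite M) (α : H ⟶ EtCoh.const Z M) (Ω : Type u) (_ : Field Ω)
      (_ : IsSepClosed Ω) (ξ : Spec (CommRingCat.of Ω) ⟶ Z),
      ξ.base (default : Spec (CommRingCat.of Ω)) = genericPoint Z ∧
        Function.Bijective ((EtCoh.stalk ξ).map α) := by
  let K : Type u := Z.residueField (genericPoint Z)
  haveI : IsAlgClosed K := by
    refine IsAlgClosed.of_ringEquiv Z.functionField _ (RingEquiv.ofBijective
      (IsLocalRing.residue (Z.presheaf.stalk (genericPoint Z))) ⟨?_, IsLocalRing.residue_surjective⟩)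
    exact RingHom.injective (IsLocalRing.residue Z.functionField)
  let g : Spec (CommRingCat.of K) ⟶ Z := Z.fromSpecResidueField (genericPoint Z)
  haveI : Finite ((EtCoh.stalk (𝟙 (Spec (CommRingCat.of K)))).obj ((EtCoh.pull g).obj H)) := by
    haveI := hfin K (𝟙 _ ≫ g)
    exact Finite.of_equiv _ ((stalkPullIso g (𝟙 _)).app H).addCommGroupIsoToAddEquiv.symm.toEquiv
  obtain ⟨M, _, _, ⟨e⟩⟩ := exists_iso_const K ((EtCoh.pull g).obj H) inferInstance
  let e' : (EtCoh.pull g).obj H ≅ (EtCoh.pull g).obj (EtCoh.const Z M) := e ≪≫ (EtCore.pullConst g M).symm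
  haveI : IsIso ((EtCoh.pullPushAdj g).unit.app (EtCoh.const Z M)) := S3105.result Z hZ M
  let α : H ⟶ EtCoh.const Z M :=
    ((EtCoh.pullPushAdj g).unit.app H ≫ (EtCoh.push g).map e'.hom) ≫ inv ((EtCoh.pullPushAdj g).unit.app (EtCoh.const Z M))
  have hα : (EtCoh.pull g).map α = e'.hom := by
    apply ((EtCoh.pullPushAdj g).homEquiv _ _).injective
    rw [Adjunction.homEquiv_unit, Adjunction.homEquiv_unit]
    refine ((EtCoh.pullPushAdj g).unit.naturality α).symm.trans ?_
    simp only [Functor.id_map, α, Category.assoc, IsIso.inv_hom_id, Category.comp_id]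
  refine ⟨M, inferInstance, inferInstance, α, K, inferInstance, inferInstance, 𝟙 _ ≫ g, ?_, ?_⟩
  · rw [Category.id_comp]
    exact Scheme.fromSpecResidueField_apply _ _
  · have h1 : IsIso ((EtCoh.pull g ⋙ EtCoh.stalk (𝟙 _)).map α) := by
      rw [Functor.comp_map, hα]
      infer_instance
    exact (ConcreteCategory.isIso_iff_bijective _).1 ((NatIso.isIso_map_iff (stalkPullIso g (𝟙 _)) α).1 h1)

variable {X : Scheme.{u}}

/-- For each point, a map into a direct image of a constant sheaf, injective there. -/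
theorem exists_injAt [CompactSpace X] [QuasiSeparatedSpace X] {F : EtCoh.Ab X} (hF : EtPBC.IsConstructible F) (x : X) :
    ∃ (D : Scheme.{u}) (π : D ⟶ X) (_ : IsFinite π) (_ : LocallyOfFinitePresentation π)
      (M : Type) (_ : AddCommGroup M) (_ : Finite M) (β : F ⟶ pg M π) (Ω : Type u) (_ : Field Ω)
      (_ : IsSepClosed Ω) (ξ : Spec (CommRingCat.of Ω) ⟶ X),
      ξ.base (default : Spec (CommRingCat.of Ω)) = x ∧ Function.Injective ((EtCoh.stalk ξ).map β) := by
  obtain ⟨Y₀, j, _, _, -, hj⟩ := ConsPropLib.exists_integral_closure x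
  haveI : QuasiSeparatedSpace Y₀ := quasiSeparatedSpace_of_quasiSeparated j
  obtain ⟨Z, ω, _, _, hcl, hn, hω⟩ := AbsNormal.exists_absolute Y₀
  let ν : Z ⟶ X := ω ≫ j
  have hfin : ∀ (Ω : Type u) [Field Ω] [IsSepClosed Ω] (ξ : Spec (CommRingCat.of Ω) ⟶ Z),
      Finite ((EtCoh.stalk ξ).obj ((EtCoh.pull ν).obj F)) := fun Ω _ _ ξ => by
    haveI := finite_stalk_of_isConstructible hF (ξ ≫ ν)
    exact Finite.of_equiv _ ((stalkPullIso ν ξ).app F).addCommGroupIsoToAddEquiv.symm.toEquiv
  obtain ⟨M, _, _, α', Ω, _, _, η, hη, hb⟩ :=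
    exists_toConst Z (fun z => ⟨inferInstance, hn z⟩) hcl ((EtCoh.pull ν).obj F) hfin
  let α : F ⟶ (EtCoh.push ν).obj (EtCoh.const Z M) := (EtCoh.pullPushAdj ν).homEquiv _ _ α'
  have hinj : Function.Injective ((EtCoh.stalk (η ≫ ν)).map α) := by
    have ht : (EtCoh.pull ν).map α ≫ (EtCoh.pullPushAdj ν).counit.app (EtCoh.const Z M) = α' :=
      ((EtCoh.pullPushAdj ν).homEquiv_counit _ _ α).symm.trans (Equiv.symm_apply_apply _ _)
    haveI h1 : Mono ((EtCoh.stalk η).map ((EtCoh.pull ν).map α) ≫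
        (EtCoh.stalk η).map ((EtCoh.pullPushAdj ν).counit.app (EtCoh.const Z M))) := by
      rw [← Functor.map_comp, ht]
      exact (AddCommGrpCat.mono_iff_injective _).2 hb.1
    haveI h2 : Mono ((EtCoh.pull ν ⋙ EtCoh.stalk η).map α) :=
      mono_of_mono ((EtCoh.stalk η).map ((EtCoh.pull ν).map α))
        ((EtCoh.stalk η).map ((EtCoh.pullPushAdj ν).counit.app (EtCoh.const Z M)))
    have hn' := (stalkPullIso ν η).hom.naturality α
    haveI : Mono ((stalkPullIso ν η).hom.app F ≫ (EtCoh.stalk (η ≫ ν)).map α) := by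
      rw [← hn']; infer_instance
    refine (AddCommGrpCat.mono_iff_injective _).1 ?_
    rw [← Iso.inv_hom_id_app_assoc (stalkPullIso ν η) F ((EtCoh.stalk (η ≫ ν)).map α)]
    exact mono_comp _ _
  haveI : IsIntegralHom ν := inferInstance
  obtain ⟨I, _, _, _, D, c, hc, hD, ⟨e⟩⟩ := S7382.result ν
  haveI : Nonempty I := ‹Nonempty I›
  obtain ⟨hcol⟩ := isColimit_pgCocone M D c hc fun i => (hD i).1
  let α₁ : F ⟶ pg M c.pt.hom := α ≫ (pushConstIso M ν).hom ≫ pgMap M ν c.pt.hom e.hom.left (CategoryTheory.Over.w e.hom)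
  haveI := (isCpt_of_isConstructible hF).preservesColimitsOfShape_small I
  obtain ⟨i, β, hβ⟩ := Types.jointly_surjective _ (isColimitOfPreserves (coyoneda.obj (op F)) hcol) α₁
  refine ⟨(D.obj (op i)).left, (D.obj (op i)).hom, (hD _).1, (hD _).2, M, inferInstance, inferInstance, β, Ω,
    inferInstance, inferInstance, η ≫ ν, ?_, ?_⟩
  · refine (Scheme.Hom.comp_apply _ _ _).trans ((congrArg ν hη).trans ?_)
    exact (Scheme.Hom.comp_apply _ _ _).trans ((congrArg j hω).trans hj)
  · haveI : IsIso (pgMap M ν c.pt.hom e.hom.left (CategoryTheory.Over.w e.hom)) :=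
      ⟨pgMap M c.pt.hom ν e.inv.left (CategoryTheory.Over.w e.inv),
        (pgMap_comp M _ _ _ _ _ _ rfl _ _ (CategoryTheory.Over.w (e.inv ≫ e.hom))).trans
          (pgMap_id M _ _ (congrArg CommaMorphism.left e.inv_hom_id) _),
        (pgMap_comp M _ _ _ _ _ _ rfl _ _ (CategoryTheory.Over.w (e.hom ≫ e.inv))).trans
          (pgMap_id M _ _ (congrArg CommaMorphism.left e.hom_inv_id) _)⟩
    haveI := (AddCommGrpCat.mono_iff_injective _).2 hinj
    have h3 : Mono ((EtCoh.stalk (η ≫ ν)).map α₁) := by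
      simp only [α₁, Functor.map_comp]
      exact mono_comp _ _
    have hβ' : β ≫ (pgCocone M D c).ι.app i = α₁ := hβ
    rw [← hβ', Functor.map_comp] at h3
    exact (AddCommGrpCat.mono_iff_injective _).1 (mono_of_mono _ ((EtCoh.stalk (η ≫ ν)).map ((pgCocone M D c).ι.app i)))

/-- injectivity as vanishing of the stalk of the kernel -/
theorem subsingleton_kernel_iff {F G : EtCoh.Ab X} (β : F ⟶ G) {Ω : Type u} [Field Ω] [IsSepClosed Ω]
    (ξ : Spec (CommRingCat.of Ω) ⟶ X) :
    Subsingleton ((EtCoh.stalk ξ).obj (kernel β)) ↔ Function.Injective ((EtCoh.stalk ξ).map β) := by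
  refine ⟨fun h => ?_, fun h => ?_⟩
  · have hz : IsZero (kernel ((EtCoh.stalk ξ).map β)) :=
      IsZero.of_iso (AddCommGrpCat.isZero_of_subsingleton _) (PreservesKernel.iso (EtCoh.stalk ξ) β).symm
    exact (AddCommGrpCat.mono_iff_injective _).1 (Preadditive.mono_of_kernel_zero (hz.eq_of_src _ _))
  · have hm := (AddCommGrpCat.mono_iff_injective _).1
      (inferInstance : Mono ((EtCoh.stalk ξ).map (kernel.ι β)))
    have h0 : ∀ a, (EtCoh.stalk ξ).map (kernel.ι β) a = 0 := fun a => h (by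
      rw [map_zero]
      refine (ConcreteCategory.comp_apply _ _ a).symm.trans ?_
      rw [← Functor.map_comp, kernel.condition, Functor.map_zero]
      rfl)
    exact ⟨fun a b => hm ((h0 a).trans (h0 b).symm)⟩

theorem killedBy_pg (M : Type) [AddCommGroup M] [Finite M] {D : Scheme.{u}} (π : D ⟶ X) (n : ℕ) :
    EtCoh.KilledBy (n * Nat.card M) (pg M π) := fun U s => by
  refine ev_ext fun p => ?_
  show (n * Nat.card M) • ev s p = 0
  rw [mul_nsmul', card_nsmul_eq_zero', nsmul_zero]

/-- Constructible sheaves embed into finite sums of direct images of constant sheaves. -/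
theorem exists_mono [CompactSpace X] [QuasiSeparatedSpace X] (F : EtCoh.Ab X) (hF : EtPBC.IsConstructible F) :
    ∃ (n : ℕ) (Y : Fin n → Scheme.{u}) (f : ∀ i, Y i ⟶ X) (_ : ∀ i, IsFinite (f i))
      (_ : ∀ i, LocallyOfFinitePresentation (f i))
      (M : Fin n → Type) (_ : ∀ i, AddCommGroup (M i)) (_ : ∀ i, Finite (M i)),
      ∀ [∀ i, EtCoh.BCCont (f i)],
      ∃ (ι : F ⟶ ⨁ fun i => (EtCoh.push (f i)).obj (EtCoh.const (Y i) (M i))), Mono ι := by
  choose D π hfin hfp M hM hMf β Ω hΩ hΩ' ξ hξ hinj using fun x : X => exists_injAt hF x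
  obtain ⟨n, hn, hnF⟩ := exists_killedBy X hF
  have hker : ∀ x, EtPBC.IsConstructible (kernel (β x)) := fun x => by
    haveI := hfin x
    haveI := hfp x
    haveI := hMf x
    have hFK : EtCoh.KilledBy (n * Nat.card (M x)) F := (killedBy_iff_nsmul _ _).2 (by
      rw [mul_comm, mul_nsmul', hnF, nsmul_zero])
    exact (S0131.result (β x) _ (Nat.mul_pos hn Nat.card_pos) hFK (killedBy_pg (M x) (π x) n) hF
      (isConstructible_of_iso (pushConstIso (M x) (π x)) (S0137.result (π x) _ (isConstructible_const _ _)))).1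
  have hP : ∀ A B : Type (u + 1), Nonempty (A ≃ B) → Subsingleton A → Subsingleton B :=
    fun A B ⟨e⟩ _ => e.symm.subsingleton
  obtain ⟨t, ht⟩ := exists_finite_cover (fun x : X => stalkSet (kernel (β x)) Subsingleton)
    (fun x => (isLocallyConstructible_stalkSet (hker x) hP).isConstructible) fun x => ⟨x, by
      have := (mem_stalkSet_iff hP (ξ x)).2 ((subsingleton_kernel_iff (β x) (ξ x)).2 (hinj x))
      rwa [hξ x] at this⟩
  let s := t.equivFin.symm
  refine ⟨t.card, fun i => D (s i).1, fun i => π (s i).1, fun i => hfin _, fun i => hfp _, fun i => M (s i).1,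
    fun i => hM _, fun i => hMf _, ?_⟩
  intro _
  refine ⟨biproduct.lift fun i => β (s i).1 ≫ (pushConstIso (M (s i).1) (π (s i).1)).inv,
    (mono_iff_stalks _).2 fun Ω' _ _ ζ => ?_⟩
  obtain ⟨x, hxt, hx⟩ := ht (ζ.base (default : Spec (CommRingCat.of Ω')))
  obtain ⟨i, hi⟩ : ∃ i, (s i).1 = x := ⟨t.equivFin ⟨x, hxt⟩, by simp [s]⟩
  subst hi
  have hmono := (AddCommGrpCat.mono_iff_injective _).2 ((subsingleton_kernel_iff _ ζ).1 ((mem_stalkSet_iff hP ζ).1 hx))
  have h4 : Mono ((EtCoh.stalk ζ).map (β (s i).1 ≫ (pushConstIso (M (s i).1) (π (s i).1)).inv)) := by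
    rw [Functor.map_comp]
    exact mono_comp _ _
  rw [← biproduct.lift_π (fun i => β (s i).1 ≫ (pushConstIso (M (s i).1) (π (s i).1)).inv) i, Functor.map_comp] at h4
  exact (AddCommGrpCat.mono_iff_injective _).1 (mono_of_mono _ ((EtCoh.stalk ζ).map (biproduct.π _ i)))

end Groth.Agent.ConstEmb13
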