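import Groth.Agent.ConstEmb13.LC
import Groth.Agent.EtFound.Germ
import Mathlib.AlgebraicGeometry.Morphisms.Finite
import Mathlib.CategoryTheory.Limits.Constructions.Over.Connected

/-!
# Locally constant functions on a limit of finite schemes
-/

set_option autoImplicit false
set_option linter.style.haveILetI false
set_option backward.isDefEq.respectTransparency false
set_option backward.isDefEq.respectTransparency.types false

universe u

open CategoryTheory CategoryTheory.Limits AlgebraicGeometry Opposite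

namespace Groth.Agent.ConstEmb13

open Groth.Agent.EtFound

variable (M : Type) [AddCommGroup M] {X : Scheme.{u}}

/-- The direct image of the sheaf of locally constant functions. -/
noncomputable def pg {Y : Scheme.{u}} (f : Y ⟶ X) : EtCoh.Ab X :=
  (EtCoh.push f).obj (EtLimit.glob (lcP M) (isSheaf_lcP M) Y)

/-- Base change of a map over the base. -/
noncomputable def bcLeft {Y Y' : Scheme.{u}} (f : Y ⟶ X) (f' : Y' ⟶ X) (h : Y' ⟶ Y) (w : h ≫ f = f')
    (W : X.Etale) : ((EtCoh.bc f').obj W).left ⟶ ((EtCoh.bc f).obj W).left :=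
  pullback.lift (pullback.fst W.hom f') (pullback.snd W.hom f' ≫ h) (by rw [Category.assoc, w]; exact pullback.condition)

variable {M}

theorem bc_map_fst {Y : Scheme.{u}} (f : Y ⟶ X) {V W : X.Etale} (g : V ⟶ W) :
    ((EtCoh.bc f).map g).left ≫ pullback.fst W.hom f = pullback.fst V.hom f ≫ g.left :=
  (EtCoh.isPullback_bc_map f g).w

theorem bc_map_snd {Y : Scheme.{u}} (f : Y ⟶ X) {V W : X.Etale} (g : V ⟶ W) :
    ((EtCoh.bc f).map g).left ≫ pullback.snd W.hom f = pullback.snd V.hom f :=
  MorphismProperty.Over.w ((EtCoh.bc f).map g)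

theorem bcLeft_natural {Y Y' : Scheme.{u}} (f : Y ⟶ X) (f' : Y' ⟶ X) (h : Y' ⟶ Y) (w : h ≫ f = f') {V W : X.Etale}
    (g : V ⟶ W) : bcLeft f f' h w V ≫ ((EtCoh.bc f).map g).left = ((EtCoh.bc f').map g).left ≫ bcLeft f f' h w W := by
  apply pullback.hom_ext
  · rw [Category.assoc, bc_map_fst, Category.assoc, bcLeft, bcLeft, pullback.lift_fst, pullback.lift_fst_assoc, bc_map_fst]
  · rw [Category.assoc, bc_map_snd, Category.assoc, bcLeft, bcLeft, pullback.lift_snd, pullback.lift_snd,
      ← Category.assoc, bc_map_snd]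

variable (M)

/-- Pulling back locally constant functions. -/
noncomputable def pgMap {Y Y' : Scheme.{u}} (f : Y ⟶ X) (f' : Y' ⟶ X) (h : Y' ⟶ Y) (w : h ≫ f = f') :
    pg M f ⟶ pg M f' :=
  ObjectProperty.homMk
    { app := fun W => (lcP M).map (bcLeft f f' h w W.unop).op
      naturality := fun W W' g => by
        change (lcP M).map ((EtCoh.bc f).map g.unop).left.op ≫ _ = _ ≫ (lcP M).map ((EtCoh.bc f').map g.unop).left.op
        rw [← Functor.map_comp, ← Functor.map_comp, ← op_comp, ← op_comp, bcLeft_natural] }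

theorem pgMap_id {Y : Scheme.{u}} (f : Y ⟶ X) (h : Y ⟶ Y) (e : h = 𝟙 Y) (w : h ≫ f = f) : pgMap M f f h w = 𝟙 _ := by
  subst e
  refine Sheaf.hom_ext (NatTrans.ext (funext fun W => ?_))
  change (lcP M).map (bcLeft f f (𝟙 Y) w W.unop).op = 𝟙 _
  have : bcLeft f f (𝟙 Y) w W.unop = 𝟙 _ := by
    apply pullback.hom_ext <;> simp only [bcLeft, pullback.lift_fst, pullback.lift_snd, Category.comp_id] <;> exact (Category.id_comp _).symm
  rw [this]
  exact (lcP M).map_id _

theorem pgMap_comp {Y Y' Y'' : Scheme.{u}} (f : Y ⟶ X) (f' : Y' ⟶ X) (f'' : Y'' ⟶ X) (h : Y' ⟶ Y) (h' : Y'' ⟶ Y')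
    (k : Y'' ⟶ Y) (hk : h' ≫ h = k) (w : h ≫ f = f') (w' : h' ≫ f' = f'') (w'' : k ≫ f = f'') :
    pgMap M f f' h w ≫ pgMap M f' f'' h' w' = pgMap M f f'' k w'' := by
  refine Sheaf.hom_ext (NatTrans.ext (funext fun W => ?_))
  change (lcP M).map (bcLeft f f' h w W.unop).op ≫ (lcP M).map (bcLeft f' f'' h' w' W.unop).op =
    (lcP M).map (bcLeft f f'' k w'' W.unop).op
  rw [← Functor.map_comp, ← op_comp]
  congr 2
  apply pullback.hom_ext
  · simp [bcLeft]
  · simp [bcLeft, ← hk]

variable {J : Type u} [SmallCategory J] [IsFiltered J] (D : Jᵒᵖ ⥤ CategoryTheory.Over X) (c : Cone D)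

/-- The system of direct images. -/
noncomputable def pgSys : J ⥤ EtCoh.Ab X where
  obj j := pg M (D.obj (op j)).hom
  map φ := pgMap M _ _ (D.map φ.op).left (CategoryTheory.Over.w _)
  map_id j := pgMap_id M _ _ (by simp) _
  map_comp φ ψ := (pgMap_comp M _ _ _ _ _ _ (by simp) _ _ _).symm

/-- The maps to the direct image from the limit. -/
noncomputable def pgCocone : Cocone (pgSys M D) where
  pt := pg M c.pt.hom
  ι :=
    { app := fun j => pgMap M _ _ (c.π.app (op j)).left (CategoryTheory.Over.w _)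
      naturality := fun j k φ => by
        refine Eq.trans ?_ (Category.comp_id _).symm
        exact pgMap_comp M _ _ _ _ _ _ (congrArg CommaMorphism.left (c.w φ.op)) _ _ _ }

/-- The base change of the system to an object of the site. -/
noncomputable def bcSys (V : X.Etale) : Jᵒᵖ ⥤ Scheme.{u} where
  obj j := ((EtCoh.bc (D.obj j).hom).obj V).left
  map φ := bcLeft _ _ (D.map φ).left (CategoryTheory.Over.w _) V
  map_id j := by
    apply pullback.hom_ext <;> simp [bcLeft] <;> exact (Category.id_comp _).symm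
  map_comp φ ψ := by apply pullback.hom_ext <;> simp [bcLeft]

/-- The base change of the limit. -/
noncomputable def bcCone (V : X.Etale) : Cone (bcSys D V) where
  pt := ((EtCoh.bc c.pt.hom).obj V).left
  π :=
    { app := fun j => bcLeft (D.obj j).hom c.pt.hom (c.π.app j).left (CategoryTheory.Over.w (c.π.app j)) V
      naturality := fun j k φ => by
        refine (Category.id_comp _).trans (pullback.hom_ext ?_ ?_)
        · simp only [bcLeft, bcSys, Category.assoc, pullback.lift_fst]
        · simp only [bcLeft, bcSys, Category.assoc, pullback.lift_snd, pullback.lift_snd_assoc]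
          exact congrArg (fun t => pullback.snd V.hom c.pt.hom ≫ t) (congrArg CommaMorphism.left (c.w φ)).symm }

theorem bcCone_app (V : X.Etale) (j : Jᵒᵖ) : (bcCone D c V).π.app j =
    bcLeft (D.obj j).hom c.pt.hom (c.π.app j).left (CategoryTheory.Over.w (c.π.app j)) V := rfl

/-- The base change of the limit is the limit. -/
theorem isLimit_bcCone (hc : IsLimit c) (V : X.Etale) : Nonempty (IsLimit (bcCone D c V)) := by
  haveI := IsCofiltered.isConnected Jᵒᵖ
  have hlift : ∀ s : Cone (bcSys D V), ∃ l : s.pt ⟶ (bcCone D c V).pt, ∀ j, l ≫ (bcCone D c V).π.app j = s.π.app j := by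
    intro s
    let o : Jᵒᵖ := Classical.arbitrary _
    have hfst : ∀ j, s.π.app j ≫ pullback.fst V.hom (D.obj j).hom = s.π.app o ≫ pullback.fst V.hom (D.obj o).hom := fun j => by
      refine constant_of_preserves_morphisms (fun j => s.π.app j ≫ pullback.fst V.hom (D.obj j).hom) (fun a b φ => ?_) j o
      have h := congrArg (· ≫ pullback.fst V.hom (D.obj b).hom) (s.w φ)
      simp only [bcSys, bcLeft, Category.assoc, pullback.lift_fst] at h
      exact h
    let a : s.pt ⟶ V.left := s.π.app o ≫ pullback.fst V.hom (D.obj o).hom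
    let s' : Cone D :=
      { pt := CategoryTheory.Over.mk (a ≫ V.hom)
        π :=
          { app := fun j => CategoryTheory.Over.homMk (s.π.app j ≫ pullback.snd V.hom (D.obj j).hom) (by
              change (s.π.app j ≫ pullback.snd V.hom (D.obj j).hom) ≫ (D.obj j).hom = a ≫ V.hom
              rw [Category.assoc, ← pullback.condition, ← Category.assoc, hfst])
            naturality := fun i j φ => by
              refine (Category.id_comp _).trans ?_
              refine CategoryTheory.Over.OverMorphism.ext ?_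
              change s.π.app j ≫ pullback.snd V.hom (D.obj j).hom =
                (s.π.app i ≫ pullback.snd V.hom (D.obj i).hom) ≫ (D.map φ).left
              rw [← s.w φ]
              simp [bcSys, bcLeft] } }
    refine ⟨pullback.lift a (hc.lift s').left (CategoryTheory.Over.w (hc.lift s')).symm, fun j => ?_⟩
    apply pullback.hom_ext
    · simp [bcCone_app, bcLeft, hfst j, a]
    · simp only [bcCone_app, bcLeft, Category.assoc, pullback.lift_snd, pullback.lift_snd_assoc]
      exact congrArg CommaMorphism.left (hc.fac s' j)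
  choose lift hfac using hlift
  refine ⟨IsLimit.mk lift hfac fun s l hl => ?_⟩
  have heq : ∀ j, l ≫ (bcCone D c V).π.app j = lift s ≫ (bcCone D c V).π.app j := fun j => (hl j).trans (hfac s j).symm
  apply pullback.hom_ext
  · have h := congrArg (· ≫ pullback.fst V.hom (D.obj (Classical.arbitrary Jᵒᵖ)).hom) (heq (Classical.arbitrary _))
    simp only [bcCone_app, bcLeft, Category.assoc, pullback.lift_fst] at h
    exact h
  · let P := CategoryTheory.Over.mk ((l ≫ pullback.snd V.hom c.pt.hom) ≫ c.pt.hom)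
    have hw : (lift s ≫ pullback.snd V.hom c.pt.hom) ≫ c.pt.hom = P.hom := by
      change _ = (l ≫ pullback.snd V.hom c.pt.hom) ≫ c.pt.hom
      have h := congrArg (· ≫ pullback.snd V.hom (D.obj (Classical.arbitrary Jᵒᵖ)).hom ≫ (D.obj _).hom)
        (heq (Classical.arbitrary _))
      simp only [bcCone_app, bcLeft, Category.assoc, pullback.lift_snd_assoc, CategoryTheory.Over.w] at h
      simp only [Functor.const_obj_obj] at h
      simpa only [Category.assoc] using h.symm
    have := hc.hom_ext (f := (CategoryTheory.Over.homMk (l ≫ pullback.snd V.hom c.pt.hom) rfl : P ⟶ c.pt))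
      (f' := CategoryTheory.Over.homMk (lift s ≫ pullback.snd V.hom c.pt.hom) hw) fun j => by
      refine CategoryTheory.Over.OverMorphism.ext ?_
      have h := congrArg (· ≫ pullback.snd V.hom (D.obj j).hom) (heq j)
      simp only [bcCone_app, bcLeft, Category.assoc, pullback.lift_snd] at h
      change (l ≫ pullback.snd V.hom c.pt.hom) ≫ (c.π.app j).left = (lift s ≫ pullback.snd V.hom c.pt.hom) ≫ (c.π.app j).left
      simpa only [Category.assoc] using h
    exact congrArg CommaMorphism.left this

variable (hc : IsLimit c) (hD : ∀ j, IsFinite (D.obj j).hom)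

include hc hD in
/-- Locally constant functions on the limit come from the stages. -/
theorem limit_sections (V : X.Etale) [IsAffine V.left] :
    (∀ σ : (pg M c.pt.hom).obj.obj (op V), ∃ (j : J) (t : (pg M (D.obj (op j)).hom).obj.obj (op V)),
      ((pgCocone M D c).ι.app j).hom.app (op V) t = σ) ∧
    ∀ (j : J) (t : (pg M (D.obj (op j)).hom).obj.obj (op V)), ((pgCocone M D c).ι.app j).hom.app (op V) t = 0 →
      ∃ (k : J) (φ : j ⟶ k), ((pgSys M D).map φ).hom.app (op V) t = 0 := by
  obtain ⟨hC⟩ := isLimit_bcCone D c hc V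
  haveI : ∀ j, IsFinite (D.obj j).hom := hD
  haveI : ∀ j, IsAffine ((bcSys D V).obj j) := fun j => by
    haveI : IsFinite (pullback.fst V.hom (D.obj j).hom) := MorphismProperty.pullback_fst _ _ (hD j)
    haveI : IsAffine ((𝟭 Scheme.{u}).obj V.left) := ‹IsAffine V.left›
    exact isAffine_of_isAffineHom (pullback.fst V.hom (D.obj j).hom)
  haveI : ∀ {i j} (φ : i ⟶ j), IsAffineHom ((bcSys D V).map φ) := fun {i j} φ => inferInstance
  refine ⟨fun σ => ?_, fun j t ht => ?_⟩
  · obtain ⟨j, t, ht⟩ := (limitColimit_lcP M).surj (bcSys D V) (bcCone D c V) hC σ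
    exact ⟨j.unop, t, ht⟩
  · obtain ⟨k, φ, hk⟩ := (limitColimit_lcP M).inj (bcSys D V) (bcCone D c V) hC (op j) t ht
    exact ⟨k.unop, φ.unop, hk⟩

include hc hD in
/-- The direct image from the limit is the colimit. -/
theorem isColimit_pgCocone : Nonempty (IsColimit (pgCocone M D c)) := by
  let K := pgSys M D
  let C := pgCocone M D c
  suffices IsIso ((colimit.isColimit K).desc C) from ⟨IsColimit.ofPointIso (colimit.isColimit K)⟩
  rw [isIso_iff_stalks]
  intro Ω _ _ ξ
  let Φ := Scheme.pointSmallEtale ξ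
  rw [ConcreteCategory.isIso_iff_bijective]
  let col := isColimitOfPreserves (EtCoh.stalk ξ) (colimit.isColimit K)
  have hleg : ∀ k x, (EtCoh.stalk ξ).map ((colimit.isColimit K).desc C) ((EtCoh.stalk ξ).map (colimit.ι K k) x) =
      (EtCoh.stalk ξ).map (C.ι.app k) x := fun k x => by
    refine (ConcreteCategory.comp_apply _ _ x).symm.trans ?_
    exact congrArg (fun t : (EtCoh.stalk ξ).obj (K.obj k) ⟶ (EtCoh.stalk ξ).obj C.pt => ConcreteCategory.hom t x)
      (((EtCoh.stalk ξ).map_comp _ _).symm.trans (congrArg (EtCoh.stalk ξ).map (colimit.ι_desc C k)))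
  have shrink : ∀ {W : X.Etale} (w : Φ.fiber.obj W), ∃ (V : X.Etale) (_ : IsAffine V.left) (m : V ⟶ W) (v : Φ.fiber.obj V),
      Φ.fiber.map m v = w := fun {W} w => by
    obtain ⟨O, hO, hxO, -⟩ := exists_isAffineOpen_mem_and_subset
      (U := (⊤ : W.left.Opens)) (TopologicalSpace.Opens.mem_top
        ((w.left : Spec (CommRingCat.of Ω) ⟶ W.left).base (default : Spec (CommRingCat.of Ω))))
    haveI : AlgebraicGeometry.Etale W.hom := W.prop
    let W' : X.Etale := Scheme.Etale.mk (O.ι ≫ W.hom)
    let m : W' ⟶ W := MorphismProperty.Over.homMk O.ι rfl trivial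
    obtain ⟨w', hw', -⟩ := exists_lift_point m w ⟨_, hxO⟩ rfl
    exact ⟨W', hO, m, w', hw'⟩
  refine ⟨(injective_iff_map_eq_zero _).2 fun x hx => ?_, fun y => ?_⟩
  · obtain ⟨k, x, rfl⟩ := Concrete.isColimit_exists_rep _ col x
    obtain ⟨W, w, s, rfl⟩ := Φ.toPresheafFiber_jointly_surjective x
    have hx' : Φ.toPresheafFiber W w C.pt.obj ((C.ι.app k).hom.app (op W) s) =
        Φ.toPresheafFiber W w C.pt.obj 0 := by
      rw [map_zero]
      exact (Φ.toPresheafFiber_naturality_apply _ _ _ _).symm.trans ((hleg k _).symm.trans hx)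
    obtain ⟨V₀, g₀, v₀, hv₀, hg₀⟩ := (Φ.toPresheafFiber_eq_iff' _ _ _ _).1 hx'
    obtain ⟨V, hV, m, v, hv⟩ := shrink v₀
    haveI := hV
    let t := (K.obj k).obj.map (m ≫ g₀).op s
    have ht : (C.ι.app k).hom.app (op V) t = 0 := by
      refine (NatTrans.naturality_apply (C.ι.app k).hom (m ≫ g₀).op s).trans ?_
      rw [op_comp, Functor.map_comp, ConcreteCategory.comp_apply]
      exact (congrArg _ hg₀).trans ((congrArg _ (map_zero _)).trans (map_zero _))
    obtain ⟨l, φ, hφ⟩ := (limit_sections M D c hc hD V).2 k t ht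
    have hw : Φ.toPresheafFiber W w (K.obj k).obj s = Φ.toPresheafFiber V v (K.obj k).obj t := by
      rw [← hv₀, ← hv, ← Functor.map_comp_apply]
      exact (Φ.toPresheafFiber_w_apply (m ≫ g₀) v _ s).symm
    change (EtCoh.stalk ξ).map (colimit.ι K k) _ = 0
    rw [← colimit.w K φ, Functor.map_comp, ConcreteCategory.comp_apply]
    refine (congrArg (fun z => (EtCoh.stalk ξ).map (colimit.ι K l) ((EtCoh.stalk ξ).map (K.map φ) z)) hw).trans ?_
    have : (EtCoh.stalk ξ).map (K.map φ) (Φ.toPresheafFiber V v (K.obj k).obj t) = 0 := by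
      refine (Φ.toPresheafFiber_naturality_apply _ _ _ _).trans ?_
      exact (congrArg _ hφ).trans (map_zero _)
    rw [this, map_zero]
  · obtain ⟨W, w, s, rfl⟩ := Φ.toPresheafFiber_jointly_surjective y
    obtain ⟨V, hV, m, v, hv⟩ := shrink w
    haveI := hV
    obtain ⟨k, t, ht⟩ := (limit_sections M D c hc hD V).1 (C.pt.obj.map m.op s)
    refine ⟨(EtCoh.stalk ξ).map (colimit.ι K k) (Φ.toPresheafFiber V v (K.obj k).obj t), (hleg _ _).trans ?_⟩
    refine (Φ.toPresheafFiber_naturality_apply _ _ _ _).trans ((congrArg _ ht).trans ?_)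
    rw [← hv]
    exact Φ.toPresheafFiber_w_apply m v _ s

end Groth.Agent.ConstEmb13
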