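import Groth.Agent.ConstEmb13.Colim
import Groth.Agent.EtFound.ConstStalk
import Groth.Prelude.Def_EtCore

/-!
# The constant sheaf as locally constant functions
-/

set_option autoImplicit false
set_option linter.style.haveILetI false
set_option backward.isDefEq.respectTransparency false
set_option backward.isDefEq.respectTransparency.types false

universe u

open CategoryTheory CategoryTheory.Limits AlgebraicGeometry Opposite

namespace Groth.Agent.ConstEmb13

open Groth.Agent.EtFound

variable (M : Type) [AddCommGroup M] (Y : Scheme.{u})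

/-- Constants are locally constant functions. -/
noncomputable def constPre : (Functor.const Y.Etaleᵒᵖ).obj (AddCommGrpCat.of (ULift.{u + 1} M)) ⟶
    (EtLimit.glob (lcP M) (isSheaf_lcP M) Y).obj where
  app W := AddCommGrpCat.ofHom (X := ULift.{u + 1} M) (Y := ULift.{u + 1} (LocallyConstant W.unop.left M))
    { toFun := fun m => ⟨LocallyConstant.const _ m.down⟩
      map_zero' := rfl
      map_add' := fun _ _ => rfl }
  naturality W W' g := by ext m; rfl

/-- The constant sheaf maps to locally constant functions. -/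
noncomputable def constTo : EtCoh.const Y M ⟶ EtLimit.glob (lcP M) (isSheaf_lcP M) Y :=
  ObjectProperty.homMk (sheafifyLift Y.smallEtaleTopology (constPre M Y)
    (EtLimit.glob (lcP M) (isSheaf_lcP M) Y).property)

theorem toSheafify_constTo : toSheafify Y.smallEtaleTopology _ ≫ (constTo M Y).hom = constPre M Y :=
  toSheafify_sheafifyLift _ _ _

/-- The constant sheaf is the sheaf of locally constant functions. -/
theorem isIso_constTo : IsIso (constTo M Y) := by
  rw [isIso_iff_stalks]
  intro Ω _ _ ξ
  rw [ConcreteCategory.isIso_iff_bijective]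
  let Φ := Scheme.pointSmallEtale ξ
  let G := EtLimit.glob (lcP M) (isSheaf_lcP M) Y
  let z : Φ.fiber.obj (EtCoh.top Y) := CategoryTheory.Over.homMk ξ (Category.comp_id ξ)
  have key : ∀ (W : Y.Etale) (w : Φ.fiber.obj W) (m : ULift.{u + 1} M),
      (EtCoh.stalk ξ).map (constTo M Y) (Φ.toPresheafFiber W w
        (sheafify Y.smallEtaleTopology ((Functor.const Y.Etaleᵒᵖ).obj (AddCommGrpCat.of (ULift.{u + 1} M))))
        ((toSheafify Y.smallEtaleTopology ((Functor.const Y.Etaleᵒᵖ).obj (AddCommGrpCat.of (ULift.{u + 1} M)))).app (op W) m)) =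
        Φ.toPresheafFiber W w G.obj ((constPre M Y).app (op W) m) := fun W w m =>
    (Φ.toPresheafFiber_naturality_apply _ _ _ _).trans
      (congrArg (Φ.toPresheafFiber W w G.obj) (congrArg (fun t => t.app (op W) m) (toSheafify_constTo M Y)))
  have hb := toSheafify_const_germ_bijective ξ AddCommGrpCat.{u + 1} (AddCommGrpCat.of (ULift.{u + 1} M))
    (EtCoh.top Y) z
  let E : ULift.{u + 1} M → ToType ((EtCoh.stalk ξ).obj G) := fun m =>
    Φ.toPresheafFiber (EtCoh.top Y) z G.obj ((constPre M Y).app (op (EtCoh.top Y)) m)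
  have hE : Function.Bijective E := by
    refine ⟨fun m m' h => ?_, fun y => ?_⟩
    · obtain ⟨V, g, v, -, hg⟩ := (Φ.toPresheafFiber_eq_iff' _ _ _ _).1 h
      exact ULift.ext _ _ (congrArg (fun t => ev t
        ((v.left : Spec (CommRingCat.of Ω) ⟶ V.left).base (default : Spec (CommRingCat.of Ω)))) hg)
    · obtain ⟨W, w, s, rfl⟩ := Φ.toPresheafFiber_jointly_surjective y
      let p := (w.left : Spec (CommRingCat.of Ω) ⟶ W.left).base (default : Spec (CommRingCat.of Ω))
      let O : W.left.Opens := ⟨{x | ev s x = ev s p}, (s.down.isLocallyConstant.isOpen_fiber _)⟩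
      haveI : AlgebraicGeometry.Etale W.hom := W.prop
      let W' : Y.Etale := Scheme.Etale.mk (O.ι ≫ W.hom)
      let m : W' ⟶ W := MorphismProperty.Over.homMk O.ι rfl trivial
      obtain ⟨w', hw', -⟩ := exists_lift_point m w ⟨p, rfl⟩ rfl
      let q : W' ⟶ EtCoh.top Y := MorphismProperty.Over.homMk W'.hom (Category.comp_id _) trivial
      refine ⟨⟨ev s p⟩, ?_⟩
      have hzq : Φ.fiber.map q w' = z := by
        refine CategoryTheory.Over.OverMorphism.ext ?_
        exact CategoryTheory.Over.w w'
      rw [← hw']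
      refine Eq.trans ?_ (Φ.toPresheafFiber_w_apply m w' _ s)
      refine Eq.trans ?_ (congrArg (Φ.toPresheafFiber W' w' G.obj)
        (ev_ext (s := (constPre M Y).app (op W') (⟨ev s p⟩ : ULift.{u + 1} M)) (t := G.obj.map m.op s)
          (fun x => (x.2 : ev s (O.ι x) = ev s p).symm)))
      show Φ.toPresheafFiber (EtCoh.top Y) z G.obj _ = _
      rw [← hzq]
      exact (Φ.toPresheafFiber_w_apply q w' _ _).symm
  refine ⟨fun a b h => ?_, fun y => ?_⟩
  · obtain ⟨m, rfl⟩ := hb.2 a
    obtain ⟨m', rfl⟩ := hb.2 b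
    exact congrArg _ (congrArg _ (hE.1 (((key _ _ _).symm.trans h).trans (key _ _ _))))
  · obtain ⟨m, rfl⟩ := hE.2 y
    exact ⟨_, key _ _ _⟩

/-- The constant sheaf as locally constant functions. -/
noncomputable def constIso : EtCoh.const Y M ≅ EtLimit.glob (lcP M) (isSheaf_lcP M) Y :=
  haveI := isIso_constTo M Y
  asIso (constTo M Y)

/-- Direct images of constant sheaves. -/
noncomputable def pushConstIso {X Y : Scheme.{u}} (f : Y ⟶ X) : (EtCoh.push f).obj (EtCoh.const Y M) ≅ pg M f :=
  (EtCoh.push f).mapIso (constIso M Y)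

end Groth.Agent.ConstEmb13
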