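import Groth.Agent.EtLimit.Global
import Groth.Agent.EtFound.ClopenDescend
import Mathlib.AlgebraicGeometry.Sites.Etale
import Mathlib.AlgebraicGeometry.Morphisms.UniversallyOpen
import Mathlib.Topology.LocallyConstant.Algebra
import Mathlib.Algebra.Category.Grp.Ulift

/-!
# The presheaf of locally constant functions
-/

set_option autoImplicit false
set_option linter.style.haveILetI false
set_option backward.isDefEq.respectTransparency.types false

universe u

open CategoryTheory CategoryTheory.Limits AlgebraicGeometry Opposite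

namespace Groth.Agent.ConstEmb13

variable (M : Type) [AddCommGroup M]

/-- The underlying continuous map of a morphism. -/
def cmap {X Y : Scheme.{u}} (f : X ⟶ Y) : C(X, Y) := ⟨f.base, f.continuous⟩

/-- Locally constant functions on schemes. -/
def lcP : Scheme.{u}ᵒᵖ ⥤ AddCommGrpCat.{u + 1} where
  obj X := AddCommGrpCat.of (ULift.{u + 1} (LocallyConstant X.unop M))
  map f := AddCommGrpCat.ofHom
    { toFun := fun s => ⟨s.down.comap (cmap f.unop)⟩
      map_zero' := rfl
      map_add' := fun _ _ => rfl }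
  map_id X := by ext s; rfl
  map_comp f g := by ext s; rfl

variable {M}

/-- The value of a section at a point. -/
def ev {X : Scheme.{u}} (s : (lcP M).obj (op X)) (x : X) : M := s.down x

theorem ev_map {X Y : Scheme.{u}} (f : X ⟶ Y) (s : (lcP M).obj (op Y)) (x : X) :
    ev ((lcP M).map f.op s) x = ev s (f x) := rfl

theorem ev_ext {X : Scheme.{u}} {s t : (lcP M).obj (op X)} (h : ∀ x, ev s x = ev t x) : s = t :=
  ULift.ext _ _ (LocallyConstant.ext h)

theorem ev_zero {X : Scheme.{u}} (x : X) : ev (0 : (lcP M).obj (op X)) x = 0 := rfl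

variable (M)

theorem isSheaf_lcP : Presheaf.IsSheaf Scheme.etaleTopology (lcP.{u} M) := by
  apply Presheaf.isSheaf_of_isSheaf_comp Scheme.etaleTopology (lcP M) (forget AddCommGrpCat.{u + 1})
  rw [isSheaf_iff_isSheaf_of_type]
  intro X S hS
  obtain ⟨𝒰, h𝒰⟩ := Scheme.mem_grothendieckTopology_iff.1 hS
  have hmem : ∀ i, S (𝒰.f i) := fun i => h𝒰 _ _ (Presieve.ofArrows.mk i)
  refine Presieve.isSeparatedFor_and_exists_isAmalgamation_iff_isSheafFor.1 ⟨fun x t₁ t₂ h₁ h₂ => ?_, fun x hx => ?_⟩
  · refine ev_ext fun p => ?_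
    obtain ⟨y, hy⟩ := 𝒰.covers p
    rw [← hy]
    exact (congrArg (fun s => ev s y) (h₁ _ (hmem (𝒰.idx p)))).trans
      (congrArg (fun s => ev s y) (h₂ _ (hmem (𝒰.idx p)))).symm
  · choose i y hy using fun p : X => (⟨𝒰.idx p, 𝒰.covers p⟩ : ∃ i y, 𝒰.f i y = p)
    have key : ∀ ⦃Z : Scheme.{u}⦄ (g : Z ⟶ X) (hg : S g) (z : Z) (i : 𝒰.I₀) (w : 𝒰.X i), 𝒰.f i w = g z →
        ev (x g hg) z = ev (x _ (hmem i)) w := by
      intro Z g hg z i w hw
      obtain ⟨q, hq₁, hq₂⟩ := Scheme.Pullback.exists_preimage_pullback (f := g) (g := 𝒰.f i) z w hw.symm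
      have h := congrArg (fun s => ev s q) (hx (pullback.fst g (𝒰.f i)) (pullback.snd g (𝒰.f i)) hg (hmem i)
        pullback.condition)
      refine (congrArg (ev (x g hg)) hq₁.symm).trans (Eq.trans ?_ (congrArg (ev (x _ (hmem i))) hq₂))
      exact h
    let F : X → M := fun p => ev (x _ (hmem (i p))) (y p)
    have hF : ∀ (i : 𝒰.I₀) (w : 𝒰.X i), F (𝒰.f i w) = ev (x _ (hmem i)) w := fun i' w =>
      key _ (hmem _) _ i' w (hy _).symm
    have hlc : IsLocallyConstant F := by
      refine (IsLocallyConstant.iff_exists_open _).2 fun p => ?_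
      haveI : Etale (𝒰.f (i p)) := 𝒰.map_prop (i p)
      have hopen : IsOpenMap (𝒰.f (i p)) := (𝒰.f (i p)).isOpenMap
      refine ⟨(𝒰.f (i p)) '' {w | ev (x _ (hmem (i p))) w = ev (x _ (hmem (i p))) (y p)},
        hopen _ ((x _ (hmem (i p))).down.isLocallyConstant.isOpen_fiber _), ⟨y p, rfl, hy p⟩, ?_⟩
      rintro _ ⟨w, hw, rfl⟩
      rw [hF]
      exact hw
    refine ⟨⟨⟨F, hlc⟩⟩, fun Z g hg => ev_ext fun z => ?_⟩
    exact (key g hg z _ _ (hy (g z))).symm

theorem limitColimit_lcP : EtLimit.LimitColimit (lcP.{u} M) where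
  inj {I} _ _ D c hc _ _ _ i s hs := by
    let N : Set (D.obj i) := {x | ev s x ≠ 0}
    have hN : IsClopen N := (s.down.isLocallyConstant.isClopen_fiber (0 : M)).compl
    obtain ⟨j, f, hf⟩ := ClopenDescend.exists_disjoint_open D c hc (fun _ => Set.univ) (fun _ => isClosed_univ)
      (fun f => Set.mapsTo_univ _ _) (i := i) ⟨N, hN.isOpen⟩ hN.isClosed.isCompact fun z _ hz =>
        hz (congrArg (fun t => ev t z) hs)
    exact ⟨j, f, ev_ext fun x => not_not.1 (hf x (Set.mem_univ x))⟩
  surj {I} _ _ D c hc _ _ _ σ := by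
    classical
    haveI := Scheme.compactSpace_of_isLimit D c hc
    have hfin : (Set.range (ev σ)).Finite := σ.down.range_finite
    have hd : ∀ m : hfin.toFinset, ∃ (i : I) (W : Set (D.obj i)), IsClopen W ∧
        ∀ z, c.π.app i z ∈ W ↔ ev σ z = m := fun m => by
      obtain ⟨i, W, hW, hWs⟩ := ClopenDescend.exists_clopen_descend D c hc (fun _ => Set.univ) (fun _ => isClosed_univ)
        (fun f => Set.mapsTo_univ _ _) Set.univ (fun z => by simp)
        {z : (Set.univ : Set c.pt) | ev σ z.1 = m.1}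
        ((σ.down.isLocallyConstant.isClopen_fiber m.1).preimage continuous_subtype_val)
      refine ⟨i, (fun x => (⟨x, Set.mem_univ x⟩ : (Set.univ : Set (D.obj i)))) ⁻¹' W,
        hW.preimage (continuous_id.subtype_mk _), fun z => ?_⟩
      exact hWs ⟨z, Set.mem_univ z⟩
    choose i W hW hWs using hd
    obtain ⟨j, hj⟩ := IsCofiltered.inf_objs_exists (Finset.univ.image i)
    let f : ∀ m, j ⟶ i m := fun m => (hj (Finset.mem_image_of_mem i (Finset.mem_univ m))).some
    let t : LocallyConstant (D.obj j) M :=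
      ∑ m : hfin.toFinset, LocallyConstant.indicator (LocallyConstant.const _ m.1)
        ((hW m).preimage (D.map (f m)).continuous)
    refine ⟨j, ⟨t⟩, ev_ext fun z => ?_⟩
    show t (c.π.app j z) = ev σ z
    let m₀ : hfin.toFinset := ⟨ev σ z, hfin.mem_toFinset.2 ⟨z, rfl⟩⟩
    have hmem : ∀ m, c.π.app j z ∈ (D.map (f m)).base ⁻¹' W m ↔ ev σ z = m := fun m => by
      have h : D.map (f m) (c.π.app j z) = c.π.app (i m) z := by
        rw [← Scheme.Hom.comp_apply, c.w]
      rw [Set.mem_preimage, show (D.map (f m)).base (c.π.app j z) = c.π.app (i m) z from h]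
      exact hWs m z
    refine (congrFun (map_sum (LocallyConstant.coeFnAddMonoidHom (X := D.obj j) (Y := M)) _ _) _).trans ?_
    rw [Finset.sum_apply, Finset.sum_eq_single m₀ (fun m _ hm => ?_) (by simp)]
    · exact Set.indicator_of_mem ((hmem m₀).2 rfl) _
    · exact Set.indicator_of_notMem (fun h => hm (Subtype.ext ((hmem m).1 h).symm)) _

end Groth.Agent.ConstEmb13
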